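import Cfsg.Agent.H600.SixRow.Grp3
import Cfsg.Agent.H600.SixRow.Num
import Cfsg.Agent.H774.P9.Eight
import Cfsg.Agent.J3Type.CharTools
import Cfsg.Agent.H681.SimpleChar
import Cfsg.Agent.S0145
import Cfsg.Agent.Characters.Galois
import Cfsg.Agent.Characters.GaloisIrr
import Cfsg.Agent.Characters.CentralCharacter
import Cfsg.Agent.Characters.DegreeBounds
import Cfsg.Agent.Blocks.ExistsModular
import Cfsg.Agent.CharactersDeep.ModCongr

/-!
# Characters of the groups with a normal `A₆`
-/

set_option autoImplicit false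
set_option maxRecDepth 100000

open scoped ComplexConjugate commutatorElement
open Cfsg Subgroup Equiv Equiv.Perm

namespace Cfsg.Agent.H600.SixRow

open Cfsg.Agent.LFourA.AltPsiAut Cfsg.Agent.H629.T9 Cfsg.Agent.Characters.Core

universe w

section gen

variable {G : Type w} [Group G] [Finite G]

/-- the only irreducible character of its degree has integer values -/
theorem int_of_unique {χ : IrrCharacter G}
    (h : ∀ ψ : IrrCharacter G, (ψ : G → ℂ) 1 = (χ : G → ℂ) 1 → ψ = χ) (g : G) : ∃ k : ℤ, (χ : G → ℂ) g = k := by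
  refine Characters.Galois.exists_int_of_forall_ringEquiv (CharactersDeep.ModCongr.isIntegral_irr χ.2 g) fun σ => ?_
  have h1 := h ⟨_, Characters.GaloisIrr.isIrr_map σ χ.2⟩ (by
    show σ ((χ : G → ℂ) 1) = (χ : G → ℂ) 1
    rw [Blocks.Basic.irr_one_eq_charDegree χ.2, map_natCast])
  exact congrFun (congrArg Subtype.val h1) g

theorem dvd_sub_of_int {p : ℕ} (hp : p.Prime) (χ : IrrCharacter G) {g : G} (hg : ∃ k : ℕ, orderOf g = p ^ k)
    {k : ℤ} (hk : (χ : G → ℂ) g = k) : (p : ℤ) ∣ k - (charDegree (χ : G → ℂ) : ℤ) := by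
  obtain ⟨M, hM⟩ := Blocks.ExistsModular.exists_isPModular hp
  have h1 := CharactersDeep.ModCongr.memLocalIdeal_character_sub hM χ.2 g g
    ⟨1, mul_one g, Commute.one_right g, hg, by rw [orderOf_one]; exact fun h => hp.one_lt.ne' (Nat.dvd_one.1 h)⟩
  rw [inv_mul_cancel, hk, Blocks.Basic.irr_one_eq_charDegree χ.2] at h1
  have h2 : ((k : ℂ) - (charDegree (χ : G → ℂ) : ℂ)) = ((k - (charDegree (χ : G → ℂ) : ℤ) : ℤ) : ℂ) := by
    push_cast; rfl
  rw [h2, Blocks.Local.memLocalIdeal_intCast_iff hM] at h1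
  exact h1

theorem sum_normSq [Fintype (IrrCharacter G)] (g : G) :
    ∑ χ : IrrCharacter G, Complex.normSq ((χ : G → ℂ) g) = (Nat.card (centralizer ({g} : Set G)) : ℝ) := by
  classical
  have := Fintype.ofFinite G
  have h := S0145.sum_irr_mul_conj g g
  rw [if_pos (IsConj.refl g)] at h
  have h2 : ∀ χ : IrrCharacter G, (χ : G → ℂ) g * conj ((χ : G → ℂ) g) = (Complex.normSq ((χ : G → ℂ) g) : ℂ) :=
    fun χ => Complex.mul_conj _
  rw [Finset.sum_congr rfl fun χ _ => h2 χ, ← Complex.ofReal_sum] at h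
  exact_mod_cast h

/-- the number of linear characters -/
theorem card_linear [Fintype (IrrCharacter G)] :
    (Finset.univ.filter fun χ : IrrCharacter G => charDegree (χ : G → ℂ) = 1).card = (commutator G).index := by
  rw [← Characters.Linear.card_hom_eq_index_commutator G, ← Nat.card_congr (Characters.Linear.linearEquiv G).symm]
  rw [← Nat.subtype_card (p := fun χ : IrrCharacter G => (χ : G → ℂ) 1 = 1)
    (Finset.univ.filter fun χ : IrrCharacter G => charDegree (χ : G → ℂ) = 1)]
  intro χ
  rw [Finset.mem_filter, Blocks.Basic.irr_one_eq_charDegree χ.2]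
  simp

end gen

variable {G : Type w} [Group G] [Finite G] {S : Subgroup G} [hSn : S.Normal] {P : Sylow 3 G} {e : S ≃* A6}

theorem comm_eq (A : Al S (P : Subgroup G) e) [IsSimpleGroup S] (hna : ¬ IsMulCommutative S) : commutator G = S := by
  apply le_antisymm
  · rw [_root_.commutator_def, commutator_le]
    intro x _ z _
    rw [commutatorElement_def]
    simp only [mul_mem_iff_of_index_two A.index, inv_mem_iff]
    tauto
  · have h1 : commutator S = ⊤ := by
      rcases (inferInstance : (commutator S).Normal).eq_bot_or_eq_top with h | h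
      · exfalso
        apply hna
        refine ⟨⟨fun a b => ?_⟩⟩
        have h2 : ⁅a, b⁆ ∈ commutator S := by
          rw [_root_.commutator_def]
          exact commutator_mem_commutator (mem_top a) (mem_top b)
        rw [h, mem_bot, commutatorElement_eq_one_iff_mul_comm] at h2
        exact h2
      · exact h
    have h2 := Subgroup.map_subtype_commutator S
    rw [h1, ← MonoidHom.range_eq_map, range_subtype] at h2
    have h3 : ⁅S, S⁆ ≤ commutator G := by
      rw [_root_.commutator_def]
      exact commutator_mono le_top le_top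
    calc S = ⁅S, S⁆ := h2
      _ ≤ _ := h3

/-- no character of degree two -/
theorem ne_two (A : Al S (P : Subgroup G) e) [IsSimpleGroup S] (hna : ¬ IsMulCommutative S) (χ : IrrCharacter G) :
    charDegree (χ : G → ℂ) ≠ 2 := by
  classical
  intro h2
  have hna' : ¬ ∀ a b : S, a * b = b * a := fun h => hna ⟨⟨h⟩⟩
  have := Fintype.ofFinite G
  have := Fintype.ofFinite S
  have := finite_irr (G := S)
  have := Fintype.ofFinite (IrrCharacter S)
  have hχ1 : (χ : G → ℂ) 1 = 2 := by rw [Blocks.Basic.irr_one_eq_charDegree χ.2, h2]; norm_num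
  obtain ⟨m, hm⟩ := exists_nat_comb (isCharacter_comp S.subtype (isIrr_isCharacter χ.2))
  have hval : ∀ s : S, (χ : G → ℂ) s = ∑ θ : IrrCharacter S, (m θ : ℂ) * (θ : S → ℂ) s := by
    intro s
    have h3 := congrFun hm s
    simpa [Finset.sum_apply] using h3
  -- all constituents are trivial
  have hone : ∀ θ : IrrCharacter S, m θ ≠ 0 → (θ : S → ℂ) = 1 := by
    intro θ hθ
    have h3 : charDegree (θ : S → ℂ) ≤ 2 := by
      have h4 := hval 1
      rw [OneMemClass.coe_one, hχ1] at h4
      have h5 : ((2 : ℕ) : ℂ) = ((∑ θ : IrrCharacter S, m θ * charDegree (θ : S → ℂ) : ℕ) : ℂ) := by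
        push_cast
        rw [h4]
        exact Finset.sum_congr rfl fun θ _ => by rw [Blocks.Basic.irr_one_eq_charDegree θ.2]
      have h6 : 2 = ∑ θ : IrrCharacter S, m θ * charDegree (θ : S → ℂ) := by exact_mod_cast h5
      have h7 : m θ * charDegree (θ : S → ℂ) ≤ 2 := by
        rw [h6]
        exact Finset.single_le_sum (f := fun θ : IrrCharacter S => m θ * charDegree (θ : S → ℂ))
          (fun _ _ => Nat.zero_le _) (Finset.mem_univ θ)
      nlinarith [Nat.pos_of_ne_zero hθ, Nat.zero_le (charDegree (θ : S → ℂ))]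
    have h4 : charDegree (θ : S → ℂ) ≠ 2 := fun h =>
      H681.SimpleChar.degree_ne_two hna' ⟨θ, h⟩
    have h5 : charDegree (θ : S → ℂ) ≠ 0 := by
      intro h
      apply isIrr_apply_one_ne_zero θ.2
      rw [Blocks.Basic.irr_one_eq_charDegree θ.2, h]; norm_num
    have h6 : charDegree (θ : S → ℂ) = 1 := by omega
    exact H681.SimpleChar.eq_one_of_degree_one hna' θ.2 (by
      rw [Blocks.Basic.irr_one_eq_charDegree θ.2, h6]; norm_num)
  have hconst : ∀ s : S, (χ : G → ℂ) s = 2 := by
    intro s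
    rw [← hχ1, ← OneMemClass.coe_one S, hval, hval]
    refine Finset.sum_congr rfl fun θ _ => ?_
    by_cases hθ : m θ = 0
    · rw [hθ]; simp
    · rw [hone θ hθ]; rfl
  -- norms
  have h3 := classInner_irr_self χ.2
  rw [classInner_def] at h3
  have h4 : ∑ g : G, (χ : G → ℂ) g * conj ((χ : G → ℂ) g) = (Nat.card G : ℂ) := by
    have h5 : (Nat.card G : ℂ) ≠ 0 := by exact_mod_cast Nat.card_pos.ne'
    field_simp at h3
    exact h3
  have h5 : ∑ g : G, Complex.normSq ((χ : G → ℂ) g) = (Nat.card G : ℝ) := by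
    have h6 : ∀ g : G, (χ : G → ℂ) g * conj ((χ : G → ℂ) g) = (Complex.normSq ((χ : G → ℂ) g) : ℂ) :=
      fun g => Complex.mul_conj _
    rw [Finset.sum_congr rfl fun g _ => h6 g, ← Complex.ofReal_sum] at h4
    exact_mod_cast h4
  have h6 : ∑ s : S, Complex.normSq ((χ : G → ℂ) s) ≤ ∑ g : G, Complex.normSq ((χ : G → ℂ) g) := by
    have h7 : ∑ s : S, Complex.normSq ((χ : G → ℂ) s) =
        ∑ g ∈ Finset.univ.map ⟨fun s : S => (s : G), Subtype.val_injective⟩, Complex.normSq ((χ : G → ℂ) g) := by
      rw [Finset.sum_map]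
      rfl
    rw [h7]
    exact Finset.sum_le_sum_of_subset_of_nonneg (Finset.subset_univ _) (fun g _ _ => Complex.normSq_nonneg _)
  rw [h5, A.card, Finset.sum_congr rfl (g := fun _ => (4 : ℝ)) (fun s _ => by
    rw [hconst]; norm_num [Complex.normSq_apply]), Finset.sum_const, Finset.card_univ, ← Nat.card_eq_fintype_card,
    Nat.card_congr e.toEquiv, card_six] at h6
  norm_num at h6

omit [Finite G] hSn in
theorem orderOf_el {a : A6} {p : ℕ} [Fact p.Prime] (h : a ^ p = 1) (h1 : a ≠ 1) : orderOf (el e a) = p := by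
  refine orderOf_eq_prime (by rw [← el_pow, h, el_one]) fun h2 => h1 (el_inj (e := e) (by rw [h2, el_one]))

end Cfsg.Agent.H600.SixRow
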