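import Cfsg.Agent.H600.SixRow.Chr
import Cfsg.Agent.H684.Principal
import Cfsg.Agent.Characters.Counting

/-!
# S4876, T9: the row `GRow A₆` (`M₁₀` and `PGL₂(9)`)
-/

set_option autoImplicit false
set_option maxRecDepth 100000

open scoped ComplexConjugate commutatorElement
open Cfsg Subgroup Equiv Equiv.Perm

namespace Cfsg.Agent.H600.SixRow

open Cfsg.Agent.LFourA.AltPsiAut Cfsg.Agent.H629.T9 Cfsg.Agent.Characters.Core

universe w

variable {G : Type w} [Group G] [Finite G] {S : Subgroup G} [hSn : S.Normal] {P : Sylow 3 G} {e : S ≃* A6}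

/-- the degrees -/
theorem degrees (A : Al S (P : Subgroup G) e) [IsSimpleGroup S] (hna : ¬ IsMulCommutative S)
    [Fintype (IrrCharacter G)] :
    (∀ χ : IrrCharacter G, charDegree (χ : G → ℂ) = 1 ∨ charDegree (χ : G → ℂ) = 8 ∨ charDegree (χ : G → ℂ) = 9 ∨
      charDegree (χ : G → ℂ) = 10 ∨ charDegree (χ : G → ℂ) = 16) ∧
    (((Finset.univ.filter fun χ : IrrCharacter G => charDegree (χ : G → ℂ) = 16).card = 0 ∧
        8 ≤ (Finset.univ.filter fun χ : IrrCharacter G => ¬ 5 ∣ charDegree (χ : G → ℂ)).card) ∨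
      (Finset.univ.filter fun χ : IrrCharacter G => charDegree (χ : G → ℂ) = 16).card = 1) := by
  classical
  have := Fintype.ofFinite G
  have hp3 : Fact (Nat.Prime 3) := ⟨Nat.prime_three⟩
  have hPc : Nat.card (P : Subgroup G) = 9 := A.free.card
  have hU : el e u ∈ (P : Subgroup G) := (A.mem_iff u).2 rfl
  have hu3 : u ^ 3 = 1 := by apply Subtype.ext; show pu ^ 3 = 1; decide
  have hu1 : u ≠ 1 := by
    intro h
    have h7 : pu = 1 := congrArg Subtype.val h
    revert h7; decide
  have hU1 : el e u ≠ 1 := fun h => hu1 (el_inj (e := e) (by rw [h, el_one]))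
  have hoU : orderOf (el e u) = 3 := orderOf_el hu3 hu1
  -- values
  have hint : ∀ χ : IrrCharacter G, ∃ v : ℤ, (χ : G → ℂ) (el e u) = v := by
    intro χ
    refine J3Type.CharTools.int_of_conj (isIrr_isCharacter χ.2) _ fun m hm => ?_
    rw [hoU] at hm
    have h1 : el e u ^ m ≠ 1 := by
      intro h
      have h2 := orderOf_dvd_of_pow_eq_one h
      rw [hoU] at h2
      have h3 := Nat.Coprime.symm hm
      rw [Nat.Prime.coprime_iff_not_dvd Nat.prime_three] at h3
      exact h3 h2
    obtain ⟨n, -, hn⟩ := A.trans (pow_mem hU m) h1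
    exact isConj_iff.2 ⟨n, hn⟩
  choose v hv using hint
  have hconst : ∀ (χ : IrrCharacter G), ∀ x ∈ (P : Subgroup G), x ≠ 1 → (χ : G → ℂ) x = v χ := by
    intro χ x hx hx1
    obtain ⟨n, -, hn⟩ := A.trans hx hx1
    rw [← hn, isIrr_isClassFunction χ.2 _ n, hv]
  have hdeg : ∀ χ : IrrCharacter G, (charDegree (χ : G → ℂ) : ℤ) ≡ v χ [ZMOD 9] := by
    intro ζ
    have := Fintype.ofFinite (P : Subgroup G)
    have h1 : IsCharacter (P : Subgroup G) (fun y : (P : Subgroup G) => (ζ : G → ℂ) y) :=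
      isCharacter_comp (P : Subgroup G).subtype (isIrr_isCharacter ζ.2)
    obtain ⟨n, hn⟩ := classInner_isNat h1
      (isIrr_isCharacter (Blocks.Basic.isIrrCharacter_one (G := (P : Subgroup G))))
    unfold classInner at hn
    rw [hPc] at hn
    simp only [map_one, mul_one] at hn
    rw [← Finset.add_sum_erase _ _ (Finset.mem_univ (1 : (P : Subgroup G)))] at hn
    have h2 : ∑ y ∈ Finset.univ.erase (1 : (P : Subgroup G)), (ζ : G → ℂ) (y : G) = 8 * (v ζ : ℂ) := by
      have hcs : ∀ y ∈ Finset.univ.erase (1 : (P : Subgroup G)), (ζ : G → ℂ) (y : G) = (v ζ : ℂ) :=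
        fun y hy => hconst ζ y y.2 fun h => (Finset.mem_erase.1 hy).1 (Subtype.ext h)
      rw [Finset.sum_congr rfl hcs]
      rw [Finset.sum_const, Finset.card_erase_of_mem (Finset.mem_univ _), Finset.card_univ,
        ← Nat.card_eq_fintype_card, hPc]
      simp
    rw [h2, OneMemClass.coe_one, Blocks.Basic.irr_one_eq_charDegree ζ.2] at hn
    have h3 : ((charDegree (ζ : G → ℂ) : ℤ) : ℂ) + 8 * (v ζ : ℂ) = 9 * ((n : ℤ) : ℂ) := by
      push_cast at hn ⊢
      rw [← hn]
      field_simp
    have h4 : (charDegree (ζ : G → ℂ) : ℤ) + 8 * v ζ = 9 * n := by exact_mod_cast h3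
    unfold Int.ModEq
    omega
  have hcomm := comm_eq A hna
  refine counts (fun χ : IrrCharacter G => charDegree (χ : G → ℂ)) v ?_ ?_ hdeg ?_ ?_ ?_ ?_ ?_
  · intro χ
    have h1 := H681.DegBasic.dvd_card (G := G) (n := charDegree (χ : G → ℂ)) ⟨χ, rfl⟩
    rwa [A.card] at h1
  · exact fun χ => ne_two A hna χ
  · rw [card_linear, hcomm, A.index]
  · intro χ hχ
    obtain ⟨f, hf⟩ := Characters.Linear.exists_hom_of_isIrrCharacter χ.2 (by
      rw [Blocks.Basic.irr_one_eq_charDegree χ.2, hχ]; norm_num)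
    have h1 : f (el e u) = 1 := by
      have h2 : el e u ∈ commutator G := by rw [hcomm]; exact el_mem _
      exact Abelianization.commutator_subset_ker f h2
    have h2 := hv χ
    rw [hf] at h2
    simp only [h1, Units.val_one] at h2
    exact_mod_cast h2.symm
  · have h1 := Characters.Counting.sum_irr_one_mul (1 : G)
    rw [if_pos rfl, A.card] at h1
    have h2 : ((∑ χ : IrrCharacter G, (charDegree (χ : G → ℂ) : ℤ) ^ 2 : ℤ) : ℂ) = ((720 : ℤ) : ℂ) := by
      push_cast
      refine Eq.trans ?_ (h1.trans (by norm_num))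
      exact Finset.sum_congr rfl fun χ _ => by rw [Blocks.Basic.irr_one_eq_charDegree χ.2]; ring
    exact_mod_cast h2
  · have h1 := sum_normSq (el e u)
    rw [A.card_cent_U] at h1
    have h2 : ((∑ χ : IrrCharacter G, v χ ^ 2 : ℤ) : ℝ) = ((9 : ℤ) : ℝ) := by
      push_cast
      refine Eq.trans ?_ (h1.trans (by norm_num))
      refine Finset.sum_congr rfl fun χ _ => ?_
      rw [hv, Complex.normSq_intCast]
      ring
    exact_mod_cast h2
  · have h1 := Characters.Counting.sum_irr_one_mul (el e u)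
    rw [if_neg hU1] at h1
    have h2 : ((∑ χ : IrrCharacter G, (charDegree (χ : G → ℂ) : ℤ) * v χ : ℤ) : ℂ) = ((0 : ℤ) : ℂ) := by
      push_cast
      refine Eq.trans ?_ (h1.trans (by norm_num))
      exact Finset.sum_congr rfl fun χ _ => by rw [Blocks.Basic.irr_one_eq_charDegree χ.2, hv]
    exact_mod_cast h2

theorem hy5 : y ^ 5 = 1 := by apply Subtype.ext; show py ^ 5 = 1; decide +kernel

theorem hy1 : y ≠ 1 := by
  intro h
  have h7 : py = 1 := congrArg Subtype.val h
  revert h7; decide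

/-- `PGL₂(9)` has no character of degree 16 -/
theorem no_sixteen (A : Al S (P : Subgroup G) e) [Fintype (IrrCharacter G)]
    (hc : Nat.card (centralizer ({el e y} : Set G)) = 10)
    (h1 : (Finset.univ.filter fun χ : IrrCharacter G => charDegree (χ : G → ℂ) = 16).card = 1) : False := by
  classical
  have := Fintype.ofFinite G
  have hp5 : Fact (Nat.Prime 5) := ⟨Nat.prime_five⟩
  obtain ⟨χ, hχ⟩ := Finset.card_eq_one.1 h1
  have hχ16 : charDegree (χ : G → ℂ) = 16 := by
    have : χ ∈ (Finset.univ.filter fun χ : IrrCharacter G => charDegree (χ : G → ℂ) = 16) := by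
      rw [hχ]; exact Finset.mem_singleton_self _
    exact (Finset.mem_filter.1 this).2
  obtain ⟨b, hb⟩ := int_of_unique (χ := χ) (fun ψ hψ => by
    rw [Blocks.Basic.irr_one_eq_charDegree ψ.2, Blocks.Basic.irr_one_eq_charDegree χ.2, hχ16] at hψ
    have h2 : charDegree (ψ : G → ℂ) = 16 := by exact_mod_cast hψ
    have : ψ ∈ (Finset.univ.filter fun χ : IrrCharacter G => charDegree (χ : G → ℂ) = 16) :=
      Finset.mem_filter.2 ⟨Finset.mem_univ _, h2⟩
    rw [hχ] at this
    exact Finset.mem_singleton.1 this) (el e y)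
  have h2 := dvd_sub_of_int Nat.prime_five χ ⟨1, by rw [pow_one]; exact orderOf_el hy5 hy1⟩ hb
  rw [hχ16] at h2
  have h3 : (b : ℝ) ^ 2 ≤ 10 := by
    have h4 := sum_normSq (el e y)
    rw [hc] at h4
    have h5 : Complex.normSq ((χ : G → ℂ) (el e y)) ≤
        ∑ χ : IrrCharacter G, Complex.normSq ((χ : G → ℂ) (el e y)) :=
      Finset.single_le_sum (f := fun χ : IrrCharacter G => Complex.normSq ((χ : G → ℂ) (el e y)))
        (fun _ _ => Complex.normSq_nonneg _) (Finset.mem_univ χ)
    rw [h4, hb, Complex.normSq_intCast] at h5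
    rw [pow_two]
    exact_mod_cast h5
  have h4 : b ^ 2 ≤ 10 := by exact_mod_cast h3
  have h5 : -4 < b := by nlinarith
  have h6 : b < 4 := by nlinarith
  have h7 : b = 1 := by push_cast at h2; omega
  -- the central character
  obtain ⟨n, ρ, hρ, hρχ⟩ := χ.2
  have h8 := Characters.CentralCharacter.isIntegral_index_mul_character_div ρ (el e y)
  have h9 : (centralizer ({el e y} : Set G)).index = 72 := by
    have h10 := (centralizer ({el e y} : Set G)).card_mul_index
    rw [hc, A.card] at h10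
    omega
  have h10 : (Module.finrank ℂ (Fin n → ℂ) : ℂ) = 16 := by
    rw [← Representation.char_one ρ, hρχ, Blocks.Basic.irr_one_eq_charDegree χ.2, hχ16]
    norm_num
  rw [h9, hρχ, hb, h7, h10] at h8
  have h12 : (((72 : ℕ) : ℂ) / ((16 : ℕ) : ℂ)) = ((72 : ℕ) : ℂ) * ((1 : ℤ) : ℂ) / 16 := by push_cast; ring
  have h11 := Characters.DegreeBounds.nat_dvd_of_isIntegral_div (m := 72) (n := 16) (by norm_num) (by
    rw [h12]; exact h8)
  revert h11
  decide

/-- `M₁₀` has few characters of `5'`-degree -/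
theorem few_five [Fintype (IrrCharacter G)]
    (hc : Nat.card (centralizer ({el e y} : Set G)) = 5) {g : G} (hg : act e g y = y ^ 2) :
    (Finset.univ.filter fun χ : IrrCharacter G => ¬ 5 ∣ charDegree (χ : G → ℂ)).card ≤ 5 := by
  classical
  have hp5 : Fact (Nat.Prime 5) := ⟨Nat.prime_five⟩
  have ho : orderOf (el e y) = 5 := orderOf_el hy5 hy1
  have hg1 : g * el e y * g⁻¹ = el e y ^ 2 := by rw [conj_el hg, el_pow]
  have hgk : ∀ k : ℕ, g ^ k * el e y * (g ^ k)⁻¹ = el e y ^ (2 ^ k) := by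
    intro k
    induction k with
    | zero => simp
    | succ k ih =>
      calc g ^ (k + 1) * el e y * (g ^ (k + 1))⁻¹ = g * (g ^ k * el e y * (g ^ k)⁻¹) * g⁻¹ := by
            rw [pow_succ']; group
        _ = (g * el e y * g⁻¹) ^ (2 ^ k) := by rw [ih, conj_pow]
        _ = el e y ^ (2 ^ (k + 1)) := by rw [hg1, ← pow_mul, pow_succ']
  have hint : ∀ χ : IrrCharacter G, ∃ v : ℤ, (χ : G → ℂ) (el e y) = v := by
    intro χ
    refine J3Type.CharTools.int_of_conj (isIrr_isCharacter χ.2) _ fun m hm => ?_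
    rw [ho] at hm
    have h1 : el e y ^ m = el e y ^ (m % 5) := by rw [← ho, pow_mod_orderOf]
    rw [h1]
    have h2 : m % 5 ≠ 0 := by
      intro h
      have h3 := Nat.dvd_of_mod_eq_zero h
      have h4 := Nat.Coprime.symm hm
      rw [Nat.Prime.coprime_iff_not_dvd Nat.prime_five] at h4
      exact h4 h3
    have h3 : m % 5 < 5 := Nat.mod_lt _ (by norm_num)
    obtain ⟨k, hk⟩ : ∃ k : ℕ, 2 ^ k % 5 = m % 5 := by
      rcases (by omega : m % 5 = 1 ∨ m % 5 = 2 ∨ m % 5 = 3 ∨ m % 5 = 4) with h | h | h | h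
      · exact ⟨0, by rw [h]; norm_num⟩
      · exact ⟨1, by rw [h]; norm_num⟩
      · exact ⟨3, by rw [h]; norm_num⟩
      · exact ⟨2, by rw [h]; norm_num⟩
    refine isConj_iff.2 ⟨g ^ k, ?_⟩
    rw [hgk, ← hk]
    conv_rhs => rw [← ho, pow_mod_orderOf]
  choose v hv using hint
  have h1 := sum_normSq (el e y)
  rw [hc] at h1
  have h2 : ∑ χ : IrrCharacter G, v χ ^ 2 = 5 := by
    have h3 : ((∑ χ : IrrCharacter G, v χ ^ 2 : ℤ) : ℝ) = ((5 : ℤ) : ℝ) := by
      push_cast
      refine Eq.trans ?_ (h1.trans (by norm_num))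
      refine Finset.sum_congr rfl fun χ _ => ?_
      rw [hv, Complex.normSq_intCast]
      ring
    exact_mod_cast h3
  have h3 : ((Finset.univ.filter fun χ : IrrCharacter G => ¬ 5 ∣ charDegree (χ : G → ℂ)).card : ℤ) ≤ 5 := by
    rw [← h2, Finset.card_eq_sum_ones]
    push_cast
    refine (Finset.sum_le_sum fun χ hχ => ?_).trans
      (Finset.sum_le_sum_of_subset_of_nonneg (Finset.filter_subset _ _) (fun χ _ _ => sq_nonneg (v χ)))
    have h4 : v χ ≠ 0 := by
      intro h5
      have h6 := dvd_sub_of_int Nat.prime_five χ ⟨1, by rw [pow_one]; exact ho⟩ (hv χ)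
      rw [h5, zero_sub, dvd_neg] at h6
      exact (Finset.mem_filter.1 hχ).2 (by exact_mod_cast h6)
    have h5 : 0 < v χ ^ 2 := by positivity
    omega
  exact_mod_cast h3

/-- **The row of `A₆`.** -/
theorem grow_six : GRow.{w, 0} (alternatingGroup (Fin 6)) := by
  intro G _ _ M S P hM hS ⟨e₀⟩
  classical
  have := hS.normal
  have := hS.simple
  have hp3 : Fact (Nat.Prime 3) := ⟨Nat.prime_three⟩
  have := finite_irr (G := G)
  have := Fintype.ofFinite (IrrCharacter G)
  obtain ⟨e, he⟩ := exists_equiv P hS.free.card e₀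
  have A : Al S (P : Subgroup G) e := ⟨hS.cent, he, hS.free⟩
  obtain ⟨ε, hu, hv, hz⟩ := exists_eps
  have hεN : ε ∉ NE := by
    intro h
    have h1 := three_of_NE h
    rw [hu] at h1
    have h2 : (pu⁻¹ * pv⁻¹).support.card = 3 := h1
    revert h2; decide
  obtain ⟨hall, hcount⟩ := degrees A hS.nonab
  obtain ⟨-, hA2⟩ := H774.P9.arith hM hS.free
  have hNmul : ∀ σ : Perm (Fin 6), ε * cn σ ∉ NE := fun σ h => hεN (by
    have := mul_mem h (inv_mem (cn_mem_NE σ))
    rwa [mul_inv_cancel_right] at this)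
  rcases A.cases hεN with hI | hO
  · -- `PGL₂(9)`
    obtain ⟨g, hg⟩ := hI 1 sign_one
    have hg' : act e g = ε := by
      rw [hg]
      have : cn 1 = 1 := map_one _
      rw [this, mul_one]
    have hcyc := cyc_of_pgl A hu hv hg'
    obtain ⟨g2, hg2⟩ := hI ps ps_sign
    have hy2 : act e g2 y = y := by
      have h1 : cn ps y = z := by apply Subtype.ext; rw [cn_coe]; exact ps_conj
      rw [hg2, MulAut.mul_apply, h1, hz]
    have hc := card_cent_pgl A hy2 (by rw [hg2]; exact hNmul _)
    have h16 : (Finset.univ.filter fun χ : IrrCharacter G => charDegree (χ : G → ℂ) = 16).card = 0 := by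
      rcases hcount with h | h
      · exact h.1
      · exact (no_sixteen A hc h).elim
    refine iff_of_false (fun h6 => ?_) (fun h => h hcyc)
    obtain ⟨χ, -, hχ⟩ := hA2.1 h6
    have h1 : charDegree (χ : G → ℂ) = 16 := by
      have := hall χ
      omega
    have h2 := Finset.card_eq_zero.1 h16
    have h3 : χ ∈ (Finset.univ.filter fun χ : IrrCharacter G => charDegree (χ : G → ℂ) = 16) :=
      Finset.mem_filter.2 ⟨Finset.mem_univ _, h1⟩
    rw [h2] at h3
    exact Finset.notMem_empty _ h3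
  · -- `M₁₀`
    obtain ⟨g, hg⟩ := hO (swap 0 1) (sign_swap (by decide))
    have hcyc := not_cyc_of_m10 A hu hv hg
    obtain ⟨g2, hg2⟩ := hO pt pt_sign
    have hy2 : act e g2 y = y ^ 2 := by
      have h1 : cn pt y = z ^ 2 := by apply Subtype.ext; rw [cn_coe]; exact pt_conj
      rw [hg2, MulAut.mul_apply, h1, map_pow, hz]
    have hc := card_cent_m10 A hy2 (by rw [hg2]; exact hNmul _)
    have h5 := few_five hc hy2
    have h16 : (Finset.univ.filter fun χ : IrrCharacter G => charDegree (χ : G → ℂ) = 16).card = 1 := by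
      rcases hcount with h | h
      · omega
      · exact h
    refine iff_of_true (hA2.2 ?_) hcyc
    obtain ⟨χ, hχ⟩ := Finset.card_eq_one.1 h16
    have hχ16 : charDegree (χ : G → ℂ) = 16 := by
      have : χ ∈ (Finset.univ.filter fun χ : IrrCharacter G => charDegree (χ : G → ℂ) = 16) := by
        rw [hχ]; exact Finset.mem_singleton_self _
      exact (Finset.mem_filter.1 this).2
    refine ⟨χ, ?_, Or.inr (by rw [hχ16])⟩
    refine H684.Principal.mem_of_not_dvd hM (U := (P : Subgroup G)) P.isPGroup' ?_ χ (by rw [hχ16]; norm_num)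
    have hle : centralizer ((P : Subgroup G) : Set G) ≤ (P : Subgroup G) := by
      intro c hc
      exact A.cent_U (mem_centralizer_iff.1 hc _ ((A.mem_iff u).2 rfl)).symm
    exact P.isPGroup'.to_le hle

end Cfsg.Agent.H600.SixRow
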